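import Cfsg.Agent.H477.HC.Groups
import Cfsg.Agent.H713.Van
import Cfsg.Agent.Characters.Central

/-!
# Descent of zeros of characters (helper649, for S4555 / S4559)

`N ≤ I`, `χ ∈ Irr(I)`, `θ ∈ Irr(N)` a constituent of `χ|N`, `x ∈ N` with `x^I = x^N` (e.g. `C_I(x) N = I`)
and `χ(x) = 0`: then `θ(x) = 0` (`zero_of_constituent`).  `exists_van`: the version for `N / Z(N)`;
`vz_down`: the version for `H713.VZ`.
-/

set_option autoImplicit false

open scoped ComplexConjugate
open Cfsg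

namespace Cfsg.Agent.H649.VanC

open Cfsg.Agent.Characters Cfsg.Agent.H477.HC

/-- **zeros descend to constituents** if the class of `x` in `I` is the class in `N` -/
theorem zero_of_constituent {I : Type*} [Group I] [Finite I] (N : Subgroup I) [Fintype N] {χ : I → ℂ}
    (hχ : IsIrrCharacter I χ) {θ : N → ℂ} (hθ : IsIrrCharacter N θ)
    (hin' : classInner (χ ∘ N.subtype) θ ≠ 0) {x : N}
    (hx : ∀ g : I, ∃ n : N, g * x * g⁻¹ = (n : I) * x * (n : I)⁻¹) (h0 : χ x = 0) : θ x = 0 := by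
  classical
  let _ : Fintype I := Fintype.ofFinite I
  have hin : ∑ n : N, χ n * conj (θ n) ≠ 0 := by
    intro h
    apply hin'
    rw [Core.classInner_def]
    simp only [Function.comp_apply, Subgroup.coe_subtype]
    rw [h, mul_zero]
  -- the sum over `N`-conjugates vanishes
  have h1 : ∀ n : N, ∑ h : N, χ ((h * x * h⁻¹ * n : N) : I) = 0 := by
    intro n
    have e1 : ∀ g : I, ∑ h : N, χ ((h : I) * (g * x * g⁻¹) * (h : I)⁻¹ * n) =
        ∑ h : N, χ ((h * x * h⁻¹ * n : N) : I) := by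
      intro g
      obtain ⟨m, hm⟩ := hx g
      rw [hm]
      rw [← Equiv.sum_comp (Equiv.mulRight m) (fun h : N => χ ((h * x * h⁻¹ * n : N) : I))]
      refine Finset.sum_congr rfl fun h _ => ?_
      congr 1
      simp only [Equiv.coe_mulRight, Subgroup.coe_mul, Subgroup.coe_inv]
      group
    have e2 : ∑ g : I, ∑ h : N, χ ((h : I) * (g * x * g⁻¹) * (h : I)⁻¹ * n) =
        ∑ h : N, ∑ g : I, χ (g * x * g⁻¹ * n) := by
      rw [Finset.sum_comm]
      refine Finset.sum_congr rfl fun h _ => ?_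
      rw [← Equiv.sum_comp (Equiv.mulLeft (h : I)) (fun g : I => χ (g * x * g⁻¹ * n))]
      refine Finset.sum_congr rfl fun g _ => ?_
      congr 1
      simp only [Equiv.coe_mulLeft]
      group
    rw [Finset.sum_congr rfl fun g _ => e1 g] at e2
    rw [Central.sum_char_conj_mul hχ, h0] at e2
    simp only [Finset.sum_const, Finset.card_univ, nsmul_eq_mul, mul_zero, zero_mul, zero_div] at e2
    rcases mul_eq_zero.1 e2 with h | h
    · exfalso
      have : (Fintype.card I : ℂ) ≠ 0 := by exact_mod_cast Fintype.card_ne_zero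
      exact this h
    · exact h
  have h2 : ∑ n : N, (∑ h : N, χ ((h * x * h⁻¹ * n : N) : I)) * conj (θ n) = 0 :=
    Finset.sum_eq_zero fun n _ => by rw [h1, zero_mul]
  have h3 : ∑ n : N, (∑ h : N, χ ((h * x * h⁻¹ * n : N) : I)) * conj (θ n) =
      ∑ n : N, χ n * conj (∑ h : N, θ (h * x⁻¹ * h⁻¹ * n)) := by
    have e1 : ∀ h : N, ∑ n : N, χ ((h * x * h⁻¹ * n : N) : I) * conj (θ n) =
        ∑ n : N, χ n * conj (θ (h * x⁻¹ * h⁻¹ * n)) := by
      intro h
      rw [← Equiv.sum_comp (Equiv.mulLeft (h * x * h⁻¹)) (fun n : N => χ n * conj (θ (h * x⁻¹ * h⁻¹ * n)))]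
      refine Finset.sum_congr rfl fun n _ => ?_
      simp only [Equiv.coe_mulLeft]
      congr 3
      group
    calc ∑ n : N, (∑ h : N, χ ((h * x * h⁻¹ * n : N) : I)) * conj (θ n)
        = ∑ n : N, ∑ h : N, χ ((h * x * h⁻¹ * n : N) : I) * conj (θ n) := by
          refine Finset.sum_congr rfl fun n _ => ?_
          rw [Finset.sum_mul]
      _ = ∑ h : N, ∑ n : N, χ ((h * x * h⁻¹ * n : N) : I) * conj (θ n) := Finset.sum_comm
      _ = ∑ h : N, ∑ n : N, χ n * conj (θ (h * x⁻¹ * h⁻¹ * n)) := Finset.sum_congr rfl fun h _ => e1 h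
      _ = ∑ n : N, ∑ h : N, χ n * conj (θ (h * x⁻¹ * h⁻¹ * n)) := Finset.sum_comm
      _ = _ := by
          refine Finset.sum_congr rfl fun n _ => ?_
          rw [map_sum, Finset.mul_sum]
  rw [h2] at h3
  have h4 : ∀ n : N, ∑ h : N, θ (h * x⁻¹ * h⁻¹ * n) = (Nat.card N : ℂ) * θ x⁻¹ / θ 1 * θ n := by
    intro n
    rw [Central.sum_char_conj_mul hθ]
    ring
  have h5 : ∑ n : N, χ n * conj (∑ h : N, θ (h * x⁻¹ * h⁻¹ * n)) =
      conj ((Nat.card N : ℂ) * θ x⁻¹ / θ 1) * ∑ n : N, χ n * conj (θ n) := by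
    rw [Finset.mul_sum]
    refine Finset.sum_congr rfl fun n _ => ?_
    rw [h4, map_mul]
    ring
  rw [h5] at h3
  have h6 : conj ((Nat.card N : ℂ) * θ x⁻¹ / θ 1) = 0 := by
    rcases mul_eq_zero.1 h3.symm with h | h
    · exact h
    · exact absurd h hin
  have h7 : (Nat.card N : ℂ) * θ x⁻¹ / θ 1 = 0 := by
    have := congrArg conj h6
    rwa [Complex.conj_conj, map_zero] at this
  have h8 : θ 1 ≠ 0 := Core.isIrr_apply_one_ne_zero hθ
  have h9 : (Nat.card N : ℂ) ≠ 0 := Core.card_ne_zero_complex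
  have h10 : θ x⁻¹ = 0 := by
    rcases div_eq_zero_iff.1 h7 with h | h
    · exact (mul_eq_zero.1 h).resolve_left h9
    · exact absurd h h8
  rw [Core.isCharacter_apply_inv (Core.isIrr_isCharacter hθ)] at h10
  have := congrArg conj h10
  rwa [Complex.conj_conj, map_zero] at this

/-- **descent to `N / Z(N)`**: one irreducible character of `N / Z(N)` vanishes at the image of every `x ∈ N` with
`χ(x) = 0` and `x^I = x^N`. -/
theorem exists_van {I : Type*} [Group I] [Finite I] (N : Subgroup I) {χ : I → ℂ}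
    (hχ : IsIrrCharacter I χ) (hz : ∀ z : N, z ∈ Subgroup.center N → χ z = χ 1) :
    ∃ η : IrrCharacter (N ⧸ Subgroup.center N), ∀ x : N,
      (∀ g : I, ∃ n : N, g * x * g⁻¹ = (n : I) * x * (n : I)⁻¹) → χ x = 0 →
      (η : N ⧸ Subgroup.center N → ℂ) (x : N ⧸ Subgroup.center N) = 0 := by
  classical
  let _ : Fintype I := Fintype.ofFinite I
  let _ : Fintype N := Fintype.ofFinite N
  have hα : IsCharacter N (χ ∘ N.subtype) := Core.isCharacter_comp N.subtype (Core.isIrr_isCharacter hχ)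
  obtain ⟨θ, hθ, hθ'⟩ := exists_constituent hα (by
    rw [Function.comp_apply, map_one]; exact Core.isIrr_apply_one_ne_zero hχ)
  have hin : ∑ n : N, χ n * conj (θ n) ≠ 0 := by
    intro h
    apply hθ'
    rw [Core.classInner_def]
    simp only [Function.comp_apply, Subgroup.coe_subtype]
    rw [h, mul_zero]
  have hker : ∀ z ∈ Subgroup.center N, θ z = θ 1 := by
    intro z hzc
    obtain ⟨l, hl⟩ := central_mul hθ hzc
    have e0 : ∑ n : N, χ n * conj (θ n) = conj l * ∑ n : N, χ n * conj (θ n) := by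
      calc ∑ n : N, χ n * conj (θ n)
          = ∑ n : N, χ ((n * z : N) : I) * conj (θ (n * z)) :=
            (Equiv.sum_comp (Equiv.mulRight z) (fun n : N => χ n * conj (θ n))).symm
        _ = _ := by
            rw [Finset.mul_sum]
            refine Finset.sum_congr rfl fun n _ => ?_
            have h5 : χ ((n * z : N) : I) = χ n :=
              kernel_mul (Core.isIrr_isCharacter hχ) (k := (z : I)) (by rw [hz z hzc]) (n : I)
            rw [hl, map_mul, h5]
            ring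
    have e2 : conj l = 1 := by
      have : (conj l - 1) * ∑ n : N, χ n * conj (θ n) = 0 := by
        rw [sub_mul, one_mul, ← e0, sub_self]
      exact sub_eq_zero.1 ((mul_eq_zero.1 this).resolve_right hin)
    have e3 : l = 1 := by
      have := congrArg conj e2
      rwa [Complex.conj_conj, map_one] at this
    have := hl 1
    rwa [one_mul, e3, one_mul] at this
  obtain ⟨η, hη, hη'⟩ := exists_quot (Subgroup.center N) hθ hker
  refine ⟨⟨η, hη⟩, fun x hx h0 => ?_⟩
  change η (x : N ⧸ Subgroup.center N) = 0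
  rw [hη']
  exact zero_of_constituent N hχ hθ hθ' hx h0

/-- the same without the centre -/
theorem exists_van' {I : Type*} [Group I] [Finite I] (N : Subgroup I) {χ : I → ℂ}
    (hχ : IsIrrCharacter I χ) :
    ∃ θ : IrrCharacter N, ∀ x : N,
      (∀ g : I, ∃ n : N, g * x * g⁻¹ = (n : I) * x * (n : I)⁻¹) → χ x = 0 →
      (θ : N → ℂ) x = 0 := by
  classical
  let _ : Fintype I := Fintype.ofFinite I
  let _ : Fintype N := Fintype.ofFinite N
  have hα : IsCharacter N (χ ∘ N.subtype) := Core.isCharacter_comp N.subtype (Core.isIrr_isCharacter hχ)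
  obtain ⟨θ, hθ, hθ'⟩ := exists_constituent hα (by
    rw [Function.comp_apply, map_one]; exact Core.isIrr_apply_one_ne_zero hχ)
  exact ⟨⟨θ, hθ⟩, fun x hx h0 => zero_of_constituent N hχ hθ hθ' hx h0⟩

/-- **descent of `VZ`**: `X` a set of elements of `N` that is stable (modulo the centre) under the automorphisms of
`N / Z(N)`, whose elements have `x^I = x^N` and `χ(x) = 0`. -/
theorem vz_down {I : Type*} [Group I] [Finite I] (N : Subgroup I) {χ : I → ℂ}
    (hχ : IsIrrCharacter I χ) (hz : ∀ z : N, z ∈ Subgroup.center N → χ z = χ 1) (X : Set N)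
    (hcl : ∀ x ∈ X, ∀ g : I, ∃ n : N, g * x * g⁻¹ = (n : I) * x * (n : I)⁻¹)
    (h0 : ∀ x ∈ X, χ x = 0)
    (haut : ∀ α : MulAut (N ⧸ Subgroup.center N), ∀ x ∈ X, ∃ y ∈ X,
      α (x : N ⧸ Subgroup.center N) = (y : N ⧸ Subgroup.center N)) :
    ∀ x ∈ X, H713.VZ (N ⧸ Subgroup.center N) (x : N ⧸ Subgroup.center N) := by
  obtain ⟨η, hη⟩ := exists_van N hχ hz
  intro x hx
  refine ⟨η, fun α => ?_⟩
  obtain ⟨y, hy, e⟩ := haut α x hx
  rw [e]
  exact hη y (hcl y hy) (h0 y hy)

/-- the same without the centre -/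
theorem vz_down' {I : Type*} [Group I] [Finite I] (N : Subgroup I) {χ : I → ℂ}
    (hχ : IsIrrCharacter I χ) (X : Set N)
    (hcl : ∀ x ∈ X, ∀ g : I, ∃ n : N, g * x * g⁻¹ = (n : I) * x * (n : I)⁻¹)
    (h0 : ∀ x ∈ X, χ x = 0)
    (haut : ∀ α : MulAut N, ∀ x ∈ X, α x ∈ X) :
    ∀ x ∈ X, H713.VZ N x := by
  obtain ⟨η, hη⟩ := exists_van' N hχ
  intro x hx
  exact ⟨η, fun α => hη _ (hcl _ (haut α x hx)) (h0 _ (haut α x hx))⟩

end Cfsg.Agent.H649.VanC
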