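import Cfsg.Agent.H649.VanC.OrthElt
import Cfsg.Agent.H612.PTwo.RowPlus
import Cfsg.Agent.H620.PNRows

/-!
# The row `Ω_{2m+1}(q)` of S4555 / S4559 (helper649)

* `row_odd` : `p ∣ q² - 1`;
* `oodd` : all primes `p ≠ char`.
-/

set_option autoImplicit false

open scoped ComplexConjugate Matrix
open Cfsg

namespace Cfsg.Agent.H649.VanC

open Module Cfsg.Agent.Characters Cfsg.Agent.H477.HC Cfsg.Agent.H53.HC QuadraticMap
open Cfsg.Agent.H423.PGOrth Cfsg.Agent.H423.PGBlk Cfsg.Agent.H620.PNorm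

universe u

section Forms

variable {K : Type u} [Field K]

/-- two hyperbolic planes split off -/
def eOdd (l : ℕ) : (Fin 2 ⊕ Fin 2) ⊕ ((Fin l ⊕ Fin l) ⊕ Unit) ≃ Unit ⊕ (Fin (2 + l) ⊕ Fin (2 + l)) :=
  (Equiv.sumAssoc (Fin 2 ⊕ Fin 2) (Fin l ⊕ Fin l) Unit).symm.trans
    ((Equiv.sumCongr (spE 2 l) (Equiv.refl Unit)).trans (Equiv.sumComm _ Unit))

theorem spl_eOdd (l : ℕ) : Spl (eOdd l) (quadFormPlus 2 K)
    (fun v : (Fin l ⊕ Fin l) ⊕ Unit → K => quadFormPlus l K (fun a => v (.inl a)) + v (.inr ()) ^ 2)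
    (quadFormOdd (2 + l) K) := by
  intro v
  rw [spl_odd (2 + l) v, spl_plus 2 l _, add_assoc]
  rfl

/-- a hyperbolic pair in the rest -/
theorem exists_rest {γ : Type} {l : ℕ} (hl : 1 ≤ l) (R' : (γ → K) → K) (h0 : R' 0 = 0) :
    ∃ a b : (Fin l ⊕ Fin l) ⊕ γ → K,
      quadFormPlus l K (fun i => a (.inl i)) + R' (fun i => a (.inr i)) = 0 ∧
      quadFormPlus l K (fun i => b (.inl i)) + R' (fun i => b (.inr i)) = 0 ∧
      quadFormPlus l K (fun i => (a + b) (.inl i)) + R' (fun i => (a + b) (.inr i)) ≠ 0 := by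
  classical
  let i0 : Fin l := ⟨0, hl⟩
  let a : (Fin l ⊕ Fin l) ⊕ γ → K := Sum.elim (Pi.single (.inl i0) 1) 0
  let b : (Fin l ⊕ Fin l) ⊕ γ → K := Sum.elim (Pi.single (.inr i0) 1) 0
  have ha : (fun i => a (.inr i)) = 0 := rfl
  have hb : (fun i => b (.inr i)) = 0 := rfl
  have hab : (fun i => (a + b) (.inr i)) = 0 := by
    funext i
    change a (.inr i) + b (.inr i) = 0
    rw [congrFun ha i, congrFun hb i]
    simp
  refine ⟨a, b, ?_, ?_, ?_⟩
  · rw [ha, h0, add_zero]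
    simp [quadFormPlus, a]
  · rw [hb, h0, add_zero]
    simp [quadFormPlus, b]
  · rw [hab, h0, add_zero]
    have h1 : quadFormPlus l K (fun i => (a + b) (.inl i)) = 1 := by
      simp only [quadFormPlus]
      rw [Finset.sum_eq_single i0]
      · simp [a, b]
      · intro j _ hj
        simp [a, b, hj]
      · intro h
        exact absurd (Finset.mem_univ _) h
    rw [h1]
    exact one_ne_zero

end Forms

/-- **`Ω_{2m+1}(q)`, `p ∣ q² - 1`** -/
theorem row_odd (K : Type u) [Field K] [Finite K] {r : ℕ} [Fact r.Prime] [CharP K r] (ho : Odd (Nat.card K)) {m : ℕ}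
    (hm : 3 ≤ m) {p : ℕ} (hp : p.Prime) (hpr : p ≠ r) (hd : p ∣ Nat.card K ^ 2 - 1) :
    VOrdP p (POmega K (quadFormOdd m K)) := by
  obtain ⟨l, rfl⟩ : ∃ l, m = 2 + l := ⟨m - 2, by omega⟩
  have h2 := two_ne_zero_of_odd (K := K) (p := r) ho
  have hpK : (p : K) ≠ 0 := by
    rw [Ne, CharP.cast_eq_zero_iff K r]
    intro h
    exact hpr ((Nat.prime_dvd_prime_iff_eq Fact.out hp).1 h).symm
  obtain ⟨hidx, hcen⟩ := odd_idx K (p := r) ho hm
  obtain ⟨⟨W₀, hW₀⟩, -⟩ := CForm.oddF_frame (K := K) (p := r) h2 (2 + l) 0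
  have hcard : Nat.card K ≠ 2 := by
    intro h
    rw [h] at ho
    exact absurd ho (by decide)
  obtain ⟨c, hc, hcv⟩ := Cfsg.Agent.H720.PV.exists_cus_sq_v K rfl (2 + l) (by omega) (fun h => absurd h hcard)
    (fun _ => hm) (fun _ => by omega)
  have hfr : ∀ W, (CForm.oddF K (2 + l) h2).TS W → finrank K W ≤ 2 + l := by
    intro W hW
    have h3 := Cfsg.Agent.H612.PTwo.two_mul_le _ hW
    rw [Module.finrank_fintype_fun_eq_card] at h3
    simp only [Fintype.card_sum, Fintype.card_fin, Fintype.card_unit] at h3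
    omega
  have hQ : (polarBilin (LieClassical.OrthForms.oddForm (2 + l) K)).Nondegenerate :=
    LieClassical.OmegaReindex.nondegenerate_of_left _
        (fun x hx => LieClassical.OrthForms.nondeg_oddForm (2 + l) K h2 x hx)
  refine vrow_orth (CForm.oddF K (2 + l) h2) (odd_hB K (2 + l) h2) (LieClassical.OrthForms.oddForm (2 + l) K)
    (LieClassical.OrthForms.coe_oddForm (2 + l) K).symm hQ ?_ ?_ (eOdd l) (spl_eOdd l)
    (exists_rest (by omega) (fun v : Unit → K => v () ^ 2) (by simp)) hm hfr hW₀ hc hcv ?_ ?_ hp hpK hd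
  · simp only [Fintype.card_sum, Fintype.card_fin, Fintype.card_unit]
    omega
  · exact Cfsg.Agent.AutOrth.Main.all_odd hm h2
  · intro z hz
    refine ⟨1, one_pow 2, fun v => ?_⟩
    rw [hcen z hz]
    change (1 : Matrix _ _ K).mulVec v = _
    rw [Matrix.one_mulVec, Units.val_one, one_smul]
  · change (Omega K (quadFormOdd (2 + l) K)).index ∣ 8
    rw [hidx]
    norm_num

/-- **the row of `Ω_{2m+1}(q)`** -/
theorem oodd (K : Type u) [Group K] [Finite K] [IsSimpleGroup K] (p r : ℕ) (hp : p.Prime) (hr : r.Prime)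
    (hpr : p ≠ r) (h : IsPOmegaOddChar r K) (hd : p ∣ Nat.card K) : VOrdP p K := by
  obtain ⟨F, _, _, _, m, hm, hodd, ⟨e⟩⟩ := h
  have : Fact r.Prime := ⟨hr⟩
  have : Fact p.Prime := ⟨hp⟩
  rw [← Nat.card_eq_fintype_card] at hodd
  refine VOrdP.mulEquiv ?_ e.symm
  have hd' : p ∣ Nat.card (POmega F (quadFormOdd m F)) := by rwa [← Nat.card_congr e.toEquiv]
  by_cases h1 : p ∣ Nat.card F ^ 2 - 1
  · exact row_odd F hodd hm hp hpr h1
  · have hq2 : 2 ≤ Nat.card F := Finite.one_lt_card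
    have hp2 : p ≠ 2 := by
      rintro rfl
      apply h1
      have h8 : 8 ∣ Nat.card F ^ 2 - 1 := Nat.eight_dvd_sq_sub_one_of_odd hodd
      exact Dvd.dvd.trans (by norm_num) h8
    have hp1 : ¬ p ∣ Nat.card F - 1 := by
      intro h
      apply h1
      refine h.trans ?_
      have : Nat.card F ^ 2 - 1 = (Nat.card F - 1) * (Nat.card F + 1) := by
        rw [mul_comm, ← Nat.sq_sub_sq, one_pow]
      rw [this]
      exact Dvd.intro _ rfl
    refine Cfsg.Agent.H620.PNRows.vOrdP_of_kill ?_ hd'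
    by_cases h2 : p ∣ Nat.card F ^ m - 1
    · refine Cfsg.Agent.H724.VO.kill_odd F (c := r) (k := m - 1) (n := 1) (by omega) hodd hm (by omega) hp2 hpr
        (fun h3 => hp1 ?_) (fun i hi => ?_)
      · have h4 := Nat.dvd_gcd h2 h3
        have h5 : Nat.gcd (Nat.card F ^ m - 1) (Nat.card F ^ (m - 1) - 1) = Nat.card F - 1 := by
          have h6 := Nat.pow_sub_one_gcd_pow_sub_one (Nat.card F) m (m - 1)
          have h7 : Nat.gcd m (m - 1) = 1 := by
            obtain ⟨j, rfl⟩ : ∃ j, m = j + 1 := ⟨m - 1, by omega⟩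
            rw [Nat.add_sub_cancel]
            simp
          rw [h6, h7, pow_one]
        rwa [h5] at h4
      · have : i = 0 := by omega
        subst this
        exact h1
    · exact Cfsg.Agent.H724.VO.kill_odd F (c := r) (k := m) (n := 0) (by omega) hodd hm (by omega) hp2 hpr h2
        (fun i hi => absurd hi (Nat.not_lt_zero i))

end Cfsg.Agent.H649.VanC
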