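import Cfsg.Agent.H649.VanC.Orth
import Cfsg.Agent.H724.VO.Orth
import Cfsg.Agent.H720.PV.Top
import Cfsg.Agent.H620.PNorm
import Cfsg.Agent.LieClassical.SmallIso
import Cfsg.Agent.ClassicalGeometry.ReflClass

/-!
# Elements of prime order in the orthogonal groups (helper649, for S4555 / S4559)

`x = y ⊥ 1`, `y ∈ SL_2(q)` of order `p` acting on a 4-space of plus type.

* `shp_elt` : the shape `Shp F k p`;
* `vrow_orth` : the row of `PΩ` for `p ∣ q² - 1`.
-/

set_option autoImplicit false

open scoped ComplexConjugate Matrix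
open Cfsg

namespace Cfsg.Agent.H649.VanC

open Module Cfsg.Agent.Characters Cfsg.Agent.H477.HC Cfsg.Agent.H53.HC QuadraticMap
open Cfsg.Agent.ClassicalGeometry.Reflection Cfsg.Agent.H423.PGOrth Cfsg.Agent.H423.PGBlk Matrix

universe u

section SL

variable {K : Type u} [Field K] [Finite K]

theorem neg_one_mem_commutator (h2 : (2 : K) ≠ 0) :
    ∃ y : SpecialLinearGroup (Fin 2) K, y ∈ commutator (SpecialLinearGroup (Fin 2) K) ∧ orderOf y = 2 := by
  obtain ⟨a, b, hab⟩ := Cfsg.Agent.ClassicalGeometry.ReflClass.exists_diag_binary h2 1 1 (-1)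
    one_ne_zero one_ne_zero
  let i : SpecialLinearGroup (Fin 2) K := ⟨!![0, 1; -1, 0], by rw [Matrix.det_fin_two_of]; ring⟩
  let j : SpecialLinearGroup (Fin 2) K := ⟨!![a, b; b, -a], by
    rw [Matrix.det_fin_two_of]; linear_combination -hab⟩
  let y : SpecialLinearGroup (Fin 2) K := ⟨!![-1, 0; 0, -1], by rw [Matrix.det_fin_two_of]; ring⟩
  have h1 : i * j = y * (j * i) := by
    apply Subtype.ext
    change i.1 * j.1 = y.1 * (j.1 * i.1)
    ext r c
    fin_cases r <;> fin_cases c <;> simp [i, j, y, Matrix.mul_apply, Fin.sum_univ_two]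
  refine ⟨y, ?_, ?_⟩
  · have h3 : y = i * j * i⁻¹ * j⁻¹ := by
      rw [h1]
      group
    have h4 := Subgroup.commutator_mem_commutator (Subgroup.mem_top i) (Subgroup.mem_top j)
    rw [commutatorElement_def, ← h3] at h4
    rw [commutator_def]
    exact h4
  · apply orderOf_eq_prime
    · rw [pow_two]
      apply Subtype.ext
      change y.1 * y.1 = 1
      ext r c
      fin_cases r <;> fin_cases c <;> simp [y, Matrix.mul_apply, Fin.sum_univ_two]
    · intro h
      apply h2
      have h4 := congrArg (fun z : SpecialLinearGroup (Fin 2) K => z.1 0 0) h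
      simp [y] at h4
      linear_combination -h4

/-- an element of order `p` of `SL_2(q)`; for `p = 2` it is a commutator -/
theorem exists_sl {p : ℕ} (hp : p.Prime) (hpK : (p : K) ≠ 0) (hd : p ∣ Nat.card K ^ 2 - 1) :
    ∃ y : SpecialLinearGroup (Fin 2) K, orderOf y = p ∧ Cfsg.Agent.H724.VO.Good y := by
  have : Fact p.Prime := ⟨hp⟩
  let _ : Fintype K := Fintype.ofFinite K
  rcases hp.eq_two_or_odd' with rfl | ho
  · obtain ⟨y, hy, hy2⟩ := neg_one_mem_commutator (K := K) (by exact_mod_cast hpK)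
    exact ⟨y, hy2, Or.inl hy⟩
  · have h1 : p ∣ Nat.card (SpecialLinearGroup (Fin 2) K) := by
      rw [Cfsg.Agent.LieClassical.SmallIso.card_sl_two, ← Nat.card_eq_fintype_card]
      exact Dvd.dvd.mul_left hd _
    obtain ⟨y, hy⟩ := exists_prime_orderOf_dvd_card' p h1
    exact ⟨y, hy, Or.inr (by rw [hy]; exact ho)⟩

end SL

section Elt

variable {ι β : Type} [Fintype ι] [DecidableEq ι] [Fintype β] [DecidableEq β] {K : Type u} [Field K]

theorem isoBlk_inl (e : (Fin 2 ⊕ Fin 2) ⊕ β ≃ ι) {R : (β → K) → K} {Q : (ι → K) → K}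
    (hs : Spl e (quadFormPlus 2 K) R Q) (y : SpecialLinearGroup (Fin 2) K) (v : ι → K) (a : Fin 2 ⊕ Fin 2) :
    mv (isoBlk e hs (lev 2 y, 1)) v (e (Sum.inl a)) =
      (Matrix.fromBlocks y.1 0 0 (y⁻¹).1ᵀ *ᵥ fun a => v (e (Sum.inl a))) a := by
  have := blkM_mulVec e ((lev 2 y : GL (Fin 2 ⊕ Fin 2) K).1, (1 : Matrix β β K)) v (Sum.inl a)
  exact this

theorem isoBlk_inr (e : (Fin 2 ⊕ Fin 2) ⊕ β ≃ ι) {R : (β → K) → K} {Q : (ι → K) → K}
    (hs : Spl e (quadFormPlus 2 K) R Q) (y : SpecialLinearGroup (Fin 2) K) (v : ι → K) (b : β) :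
    mv (isoBlk e hs (lev 2 y, 1)) v (e (Sum.inr b)) = v (e (Sum.inr b)) := by
  have := blkM_mulVec e ((lev 2 y : GL (Fin 2 ⊕ Fin 2) K).1, (1 : Matrix β β K)) v (Sum.inr b)
  rw [Sum.elim_inr, Matrix.one_mulVec] at this
  exact this

/-- **the shape of `y ⊥ 1`** -/
theorem shp_elt [Finite K] (F : CForm K (ι → K)) (hB : ∀ u v, F.B u v = F.Q (u + v) - F.Q u - F.Q v)
    (e : (Fin 2 ⊕ Fin 2) ⊕ β ≃ ι) {R : (β → K) → K} (hs : Spl e (quadFormPlus 2 K) R F.Q)
    (hR : ∃ a b : β → K, R a = 0 ∧ R b = 0 ∧ R (a + b) ≠ 0) {k : ℕ} (hk : 3 ≤ k)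
    (hW : ∀ W, F.TS W → finrank K W ≤ k) {p : ℕ} (hpK : (p : K) ≠ 0) {y : SpecialLinearGroup (Fin 2) K}
    (hy : y ^ p = 1) (hy1 : y ≠ 1) :
    Shp F k p (isoQuad F hB (isoBlk e hs (lev 2 y, 1)) : F.iso) := by
  classical
  set x := isoBlk e hs (lev 2 y, 1) with hx
  have hsx : ∀ v, ((isoQuad F hB x : F.iso) : (ι → K) ≃ₗ[K] (ι → K)) v = mv x v := fun v => rfl
  set s := ((isoQuad F hB x : F.iso) : (ι → K) ≃ₗ[K] (ι → K)) with hsdef
  have hpow : s ^ p = 1 := by
    have h1 : x ^ p = 1 := by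
      rw [hx, ← map_pow, Prod.pow_mk, ← map_pow, hy, map_one, one_pow]
      exact map_one _
    have h2 : (isoQuad F hB x) ^ p = 1 := by rw [← map_pow, h1, map_one]
    exact congrArg Subtype.val h2
  have hinl : ∀ v a, s v (e (Sum.inl a)) = (Matrix.fromBlocks y.1 0 0 (y⁻¹).1ᵀ *ᵥ fun a => v (e (Sum.inl a))) a :=
    fun v a => isoBlk_inl e hs y v a
  have hinr : ∀ v b, s v (e (Sum.inr b)) = v (e (Sum.inr b)) := fun v b => isoBlk_inr e hs y v b
  -- the form on the two pieces
  have hQ0 : quadFormPlus 2 K (fun _ => 0) = 0 := by simp [quadFormPlus]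
  refine ⟨hpow, ?_, ?_, ?_⟩
  · -- the rank
    let π : (ι → K) →ₗ[K] (Fin 2 ⊕ Fin 2 → K) := LinearMap.funLeft K K (fun a => e (Sum.inl a))
    have h1 : Function.Injective (π.domRestrict (LinearMap.range ((s : (ι → K) →ₗ[K] (ι → K)) - 1))) := by
      rw [← LinearMap.ker_eq_bot, LinearMap.ker_eq_bot']
      rintro ⟨v, w, rfl⟩ hv
      apply Subtype.ext
      funext i
      obtain ⟨j, rfl⟩ := e.surjective i
      rcases j with a | b
      · exact congrFun hv a
      · simp only [LinearMap.sub_apply, LinearEquiv.coe_coe, Module.End.one_apply, Pi.sub_apply, hinr, sub_self]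
        rfl
    have h2 := LinearMap.finrank_le_finrank_of_injective h1
    rw [Module.finrank_fintype_fun_eq_card] at h2
    simp only [Fintype.card_sum, Fintype.card_fin] at h2
    omega
  · -- moved vectors
    intro W hWk
    by_contra hno
    push Not at hno
    -- singular vectors of the image are fixed
    have key : ∀ v, F.Q (s v - v) = 0 → s (s v - v) = s v - v := by
      intro v hu
      set u := s v - v with hudef
      have hperp : ∀ w ∈ W, F.B w u = 0 := by
        intro w hw
        have h1 := F.iso_B (isoQuad F hB x) w v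
        have h2 : ((isoQuad F hB x : F.iso) : (ι → K) ≃ₗ[K] (ι → K)) w = w := hno w hw
        rw [h2] at h1
        rw [hudef, F.B_sub_right]
        exact sub_eq_zero.2 h1
      have huu : F.B u u = 0 := F.alt u hu
      have hTS : F.TS (W ⊔ Submodule.span K {u}) := by
        have hdec : ∀ z ∈ W ⊔ Submodule.span K {u}, ∃ w ∈ W, ∃ c : K, z = w + c • u := by
          intro z hz
          obtain ⟨w, hw, t, ht, rfl⟩ := Submodule.mem_sup.1 hz
          obtain ⟨c, rfl⟩ := Submodule.mem_span_singleton.1 ht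
          exact ⟨w, hw, c, rfl⟩
        refine ⟨fun z hz => ?_, fun z hz z' hz' => ?_⟩
        · obtain ⟨w, hw, c, rfl⟩ := hdec z hz
          rw [F.Q_add, F.Q_smul, hWk.1.1 w hw, hu, F.B_smul_right, hperp w hw, mul_zero, mul_zero, F.T_zero]
          ring
        · obtain ⟨w, hw, c, rfl⟩ := hdec z hz
          obtain ⟨w', hw', c', rfl⟩ := hdec z' hz'
          rw [F.B_add_left, F.B_add_right, F.B_add_right, hWk.1.2 w hw w' hw', F.B_smul_right, hperp w hw,
            F.B_smul_left, F.B_eq_zero (hperp w' hw'), F.B_smul_left, F.B_smul_right, huu]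
          ring
      have h1 := hW _ hTS
      have h2 : W = W ⊔ Submodule.span K {u} :=
        Submodule.eq_of_le_of_finrank_le le_sup_left (by rw [hWk.2]; exact h1)
      have h3 : u ∈ W := by
        rw [h2]
        exact Submodule.mem_sup_right (Submodule.mem_span_singleton_self u)
      exact hno u h3
    -- vectors of the first component
    apply hy1
    have hfix : ∀ v : ι → K, (∀ i : Fin 2, v (e (Sum.inl (Sum.inr i))) = 0) → (∀ b, v (e (Sum.inr b)) = 0) →
        s v = v := by
      intro v hv1 hv2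
      have hu1 : ∀ i : Fin 2, (s v - v) (e (Sum.inl (Sum.inr i))) = 0 := by
        intro i
        rw [Pi.sub_apply, hinl, hv1 i, sub_zero, Matrix.fromBlocks_mulVec]
        simp only [Sum.elim_inr, Matrix.zero_mulVec, zero_add]
        have : ((fun a => v (e (Sum.inl a))) ∘ Sum.inr : Fin 2 → K) = 0 := by
          funext j
          exact hv1 j
        rw [this, Matrix.mulVec_zero]
        rfl
      have hu2 : ∀ b, (s v - v) (e (Sum.inr b)) = 0 := by
        intro b
        rw [Pi.sub_apply, hinr, sub_self]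
      have hQu : F.Q (s v - v) = 0 := by
        rw [hs]
        have h1 : quadFormPlus 2 K (fun a => (s v - v) (e (Sum.inl a))) = 0 := by
          simp only [quadFormPlus]
          exact Finset.sum_eq_zero fun i _ => by rw [hu1, mul_zero]
        have h2 : (fun b => (s v - v) (e (Sum.inr b))) = 0 := by
          funext b
          exact hu2 b
        obtain ⟨a, b, ha, hb, -⟩ := hR
        have h3 : R 0 = 0 := by
          have := hs 0
          rw [F.Q_zero] at this
          have h4 : quadFormPlus 2 K (fun a => (0 : ι → K) (e (Sum.inl a))) = 0 := hQ0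
          rw [h4, zero_add] at this
          exact this.symm
        rw [h1, h2, h3, add_zero]
      have h1 := key v hQu
      set u := s v - v with hudef
      have h2 : ∀ j : ℕ, (s ^ j) v = v + (j : K) • u := by
        intro j
        induction j with
        | zero => simp
        | succ j ih =>
          rw [pow_succ', LinearEquiv.mul_apply, ih, map_add, map_smul, h1, Nat.cast_succ, add_smul, one_smul]
          have : s v = v + u := by rw [hudef]; abel
          rw [this]
          abel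
      have h3 := h2 p
      rw [hpow] at h3
      have h4 : (p : K) • u = 0 := by
        have h5 : v = v + (p : K) • u := h3
        exact left_eq_add.1 h5
      have h5 := (smul_eq_zero.1 h4).resolve_left hpK
      rw [hudef] at h5
      exact sub_eq_zero.1 h5
    apply Subtype.ext
    apply Matrix.mulVec_injective
    funext w
    let v : ι → K := fun i => Sum.elim (Sum.elim w 0) 0 (e.symm i)
    have hv : s v = v := hfix v (fun i => by simp [v]) (fun b => by simp [v])
    have h6 : (fun a => v (e (Sum.inl a))) = Sum.elim w 0 := by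
      funext a
      simp [v]
    funext i
    have h7 := hinl v (Sum.inl i)
    rw [hv, h6, Matrix.fromBlocks_mulVec] at h7
    simp only [Sum.elim_inl, Sum.elim_comp_inl, Sum.elim_comp_inr, Matrix.zero_mulVec, add_zero] at h7
    rw [show ((1 : SpecialLinearGroup (Fin 2) K) : Matrix (Fin 2) (Fin 2) K) = 1 from rfl, Matrix.one_mulVec]
    rw [← h7]
    simp [v]
  · -- the fixed pair
    obtain ⟨a, b, ha, hb, hab⟩ := hR
    let L : (β → K) → (ι → K) := fun c i => Sum.elim 0 c (e.symm i)
    have hL1 : ∀ c a, L c (e (Sum.inl a)) = 0 := fun c a => by simp [L]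
    have hL2 : ∀ c b, L c (e (Sum.inr b)) = c b := fun c b => by simp [L]
    have hQL : ∀ c, F.Q (L c) = R c := by
      intro c
      rw [hs]
      simp only [hL1, hL2, hQ0, zero_add]
    have hsL : ∀ c, s (L c) = L c := by
      intro c
      funext i
      obtain ⟨j, rfl⟩ := e.surjective i
      rcases j with j | j
      · rw [hinl, hL1]
        have : (fun a => L c (e (Sum.inl a))) = 0 := by
          funext a
          exact hL1 c a
        rw [this, Matrix.mulVec_zero]
        rfl
      · rw [hinr]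
    have hadd : L a + L b = L (a + b) := by
      funext i
      obtain ⟨j, rfl⟩ := e.surjective i
      rcases j with j | j
      · rw [Pi.add_apply, hL1, hL1, hL1, add_zero]
      · rw [Pi.add_apply, hL2, hL2, hL2, Pi.add_apply]
    refine ⟨L a, L b, by rw [hQL, ha], by rw [hQL, hb], ?_, hsL a, hsL b⟩
    rw [hB, hadd, hQL, hQL, hQL, ha, hb, sub_zero, sub_zero]
    exact hab

/-- **the row of `PΩ`, `p ∣ q² - 1`** -/
theorem vrow_orth [Finite K] (F : CForm K (ι → K)) (hB : ∀ u v, F.B u v = F.Q (u + v) - F.Q u - F.Q v)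
    (Q : QuadraticForm K (ι → K)) (hFQ : F.Q = ⇑Q) (hQ : (polarBilin Q).Nondegenerate) (h5 : 5 ≤ Fintype.card ι)
    (haut : ∀ α : MulAut (POmega K F.Q), Cfsg.Agent.AutOrth.Main.Ind F.Q α)
    (e : (Fin 2 ⊕ Fin 2) ⊕ β ≃ ι) {R : (β → K) → K} (hs : Spl e (quadFormPlus 2 K) R F.Q)
    (hR : ∃ a b : β → K, R a = 0 ∧ R b = 0 ∧ R (a + b) ≠ 0) {k : ℕ} (hk : 3 ≤ k)
    (hW : ∀ W, F.TS W → finrank K W ≤ k) {W₀ : Submodule K (ι → K)} (hW₀ : W₀ ∈ F.Om k)
    {c : GL (Fin k) K → ℂ} (hc : Cus K k F.σ (fun z => z ^ 2 = 1) c) (hcv : Cfsg.Agent.H720.PV.PVan c)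
    (hcen : ∀ z : Omega K F.Q, z ∈ Subgroup.center (Omega K F.Q) →
      ∃ a : Kˣ, a ^ 2 = 1 ∧ ∀ v, (omMat z).mulVec v = (a : K) • v)
    (hidx : (Omega K F.Q).index ∣ 8) {p : ℕ} (hp : p.Prime) (hpK : (p : K) ≠ 0) (hd : p ∣ Nat.card K ^ 2 - 1) :
    Cfsg.Agent.H620.PNorm.VOrdP p (POmega K F.Q) := by
  classical
  have : Fact p.Prime := ⟨hp⟩
  obtain ⟨y, hy, hyg⟩ := exists_sl (K := K) hp hpK hd
  have hy1 : y ≠ 1 := by
    rintro rfl
    rw [orderOf_one] at hy
    exact hp.one_lt.ne hy
  have hyp : y ^ p = 1 := by rw [← hy]; exact pow_orderOf_eq_one y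
  have hmem : isoBlk e hs (lev 2 y, 1) ∈ Omega K F.Q := by
    refine Cfsg.Agent.H724.VO.Good.mem hidx ?_
    have := hyg.map (f := (isoBlk e hs).comp ((MonoidHom.inl _ _).comp (lev 2))) (fun a b hab =>
      lev_injective 2 (Prod.ext_iff.1 (isoBlk_injective e hs hab)).1)
    exact this
  obtain ⟨χ, hχ, -, hχz, hχv⟩ := Cfsg.Agent.H720.PV.exists_char_v F hW₀ hc hcv
  have hshp := shp_elt F hB e hs hR hk hW hpK hyp hy1
  refine ⟨QuotientGroup.mk (⟨_, hmem⟩ : Omega K F.Q), ?_, ?_⟩
  · apply orderOf_eq_prime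
    · rw [← QuotientGroup.mk_pow]
      have h1 : (⟨_, hmem⟩ : Omega K F.Q) ^ p = 1 := by
        apply Subtype.ext
        change (isoBlk e hs (lev 2 y, 1)) ^ p = 1
        rw [← map_pow, Prod.pow_mk, ← map_pow, hyp, map_one, one_pow]
        exact map_one _
      rw [h1]
      rfl
    · intro h
      have h1 := (QuotientGroup.eq_one_iff _).1 h
      obtain ⟨a, -, ha⟩ := hcen _ h1
      -- a scalar with a fixed vector
      obtain ⟨h2, h3, h4, u, w, hu, hw, huw, hsu, hsw⟩ := hshp
      have hu0 : u ≠ 0 := by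
        rintro rfl
        apply huw
        rw [F.B_zero_left]
      have h6 : (a : K) • u = u := by
        rw [← ha u]
        exact hsu
      have h7 : (a : K) = 1 := by
        have h8 : ((a : K) - 1) • u = 0 := by rw [sub_smul, h6, one_smul, sub_self]
        exact sub_eq_zero.1 ((smul_eq_zero.1 h8).resolve_right hu0)
      obtain ⟨z, hz, hz'⟩ := h4 W₀ hW₀
      apply hz'
      have h9 := ha z
      rw [h7, one_smul] at h9
      exact h9
  · exact vz_orth F hB Q hFQ hQ h5 haut hχ hχz hcen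
      (fun s hs => hχv s p hpK hs.1 hs.2.1 hs.2.2.1) hshp

end Elt

end Cfsg.Agent.H649.VanC
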